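import Mathlib

/-!
# Zsigmondy's theorem
-/

set_option autoImplicit false

open Polynomial Finset

namespace Cfsg.Agent.NumTheory

/-- the value of the cyclotomic polynomial -/
noncomputable def cyc (n a : ℕ) : ℤ := (cyclotomic n ℤ).eval (a : ℤ)

theorem cast_cyc {R : Type*} [CommRing R] (n a : ℕ) :
    ((cyc n a : ℤ) : R) = (cyclotomic n R).eval (a : R) := by
  rw [cyc, ← eq_intCast (Int.castRingHom R), ← eval₂_at_apply, ← eval_map, map_cyclotomic_int, map_natCast]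

theorem cyc_dvd (n a : ℕ) : cyc n a ∣ (a : ℤ) ^ n - 1 := by
  obtain ⟨h, hh⟩ := cyclotomic.dvd_X_pow_sub_one n ℤ
  exact ⟨h.eval (a : ℤ), by rw [cyc, ← eval_mul, ← hh]; simp⟩

theorem one_lt_cyc {n a : ℕ} (hn : 1 < n) (ha : 1 < a) : 1 < cyc n a := by
  have h := sub_one_lt_natAbs_cyclotomic_eval hn ha.ne'
  have hpos : 0 < cyc n a := cyclotomic_pos' n (by exact_mod_cast ha)
  rw [cyc] at hpos ⊢
  omega

/-- a prime dividing the value but not the index is primitive -/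
theorem primitive_of_not_dvd {n a r : ℕ} (hr : r.Prime) (h : (r : ℤ) ∣ cyc n a) (hn : ¬ r ∣ n) :
    ∀ k : ℕ, 0 < k → k < n → ¬ r ∣ a ^ k - 1 := by
  intro k hk hkn hd
  have : Fact r.Prime := ⟨hr⟩
  have : NeZero (n : ZMod r) := ⟨by rwa [Ne, ZMod.natCast_eq_zero_iff]⟩
  have hroot : (cyclotomic n (ZMod r)).IsRoot (a : ZMod r) := by
    rw [IsRoot, ← cast_cyc, ZMod.intCast_zmod_eq_zero_iff_dvd]; exact h
  have hprim := isRoot_cyclotomic_iff.mp hroot
  have h1 : (a : ZMod r) ^ k = 1 := by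
    rcases Nat.eq_zero_or_pos (a ^ k) with h0 | h0
    · have ha : a = 0 := (pow_eq_zero_iff hk.ne').mp h0
      have h2 := hprim.pow_eq_one
      rw [ha, Nat.cast_zero, zero_pow (by omega : n ≠ 0)] at h2
      exact absurd h2 zero_ne_one
    · rw [← ZMod.natCast_eq_zero_iff, Nat.cast_sub h0, Nat.cast_pow, Nat.cast_one, sub_eq_zero] at hd
      exact hd
  exact hprim.pow_ne_one_of_pos_of_lt hk.ne' hkn h1

/-- the cofactor of a dividing prime divides `r - 1`, and `a` raised to it is `1` modulo `r` -/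
theorem cofactor_of_dvd {n a r : ℕ} (hr : r.Prime) (hn0 : n ≠ 0) (h : (r : ℤ) ∣ cyc n a) (hn : r ∣ n) :
    ∃ k m : ℕ, n = r ^ (k + 1) * m ∧ m ∣ r - 1 ∧ ¬ r ∣ m ∧ (a : ZMod r) ^ m = 1 := by
  have : Fact r.Prime := ⟨hr⟩
  obtain ⟨e, m, hm, rfl⟩ := Nat.exists_eq_pow_mul_and_not_dvd hn0 r hr.ne_one
  have he : 0 < e := Nat.pos_of_ne_zero fun e0 => hm (by simpa [e0] using hn)
  have hroot : (cyclotomic (r ^ e * m) (ZMod r)).IsRoot (a : ZMod r) := by
    rw [IsRoot, ← cast_cyc, ZMod.intCast_zmod_eq_zero_iff_dvd]; exact h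
  rw [cyclotomic_mul_prime_pow_eq (ZMod r) hm he, IsRoot, eval_pow] at hroot
  have hroot' : (cyclotomic m (ZMod r)).IsRoot (a : ZMod r) := by
    rw [IsRoot]
    exact pow_eq_zero_iff (Nat.sub_pos_of_lt (Nat.pow_lt_pow_right hr.one_lt (by omega))).ne' |>.mp hroot
  have : NeZero (m : ZMod r) := ⟨by rwa [Ne, ZMod.natCast_eq_zero_iff]⟩
  have hprim := isRoot_cyclotomic_iff.mp hroot'
  refine ⟨e - 1, m, by rw [Nat.sub_add_cancel he], ?_, hm, hprim.pow_eq_one⟩
  have hne : (a : ZMod r) ≠ 0 := fun e0 => by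
    have h2 := hprim.pow_eq_one
    rw [e0, zero_pow (show m ≠ 0 from fun e1 => hm (e1 ▸ dvd_zero r))] at h2
    exact zero_ne_one h2
  exact hprim.dvd_of_pow_eq_one _ (ZMod.pow_card_sub_one_eq_one hne)

/-- the two exceptional divisors cannot be different -/
theorem dvd_index_unique {n a r s : ℕ} (hr : r.Prime) (hs : s.Prime) (hn0 : n ≠ 0) (h : (r : ℤ) ∣ cyc n a)
    (h' : (s : ℤ) ∣ cyc n a) (hrn : r ∣ n) (hsn : s ∣ n) : r = s := by
  obtain ⟨k, m, hm, hmd, -, -⟩ := cofactor_of_dvd hr hn0 h hrn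
  obtain ⟨k', m', hm', hmd', -, -⟩ := cofactor_of_dvd hs hn0 h' hsn
  by_contra hne
  have h1 : s ∣ m := by
    have := hsn
    rw [hm] at this
    exact (hs.dvd_mul.mp this).resolve_left fun hd =>
      hne ((Nat.prime_dvd_prime_iff_eq hs hr).mp (hs.dvd_of_dvd_pow hd)).symm
  have h2 : r ∣ m' := by
    have := hrn
    rw [hm'] at this
    exact (hr.dvd_mul.mp this).resolve_left fun hd =>
      hne ((Nat.prime_dvd_prime_iff_eq hr hs).mp (hr.dvd_of_dvd_pow hd))
  have := Nat.le_of_dvd (by have := hr.two_le; omega) (h1.trans hmd)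
  have := Nat.le_of_dvd (by have := hs.two_le; omega) (h2.trans hmd')
  omega

/-- the exceptional divisor divides only once -/
theorem not_sq_dvd {n a r : ℕ} (hr : r.Prime) (ha : 1 < a) (hn2 : n ≠ 2) (hn0 : n ≠ 0) (h : (r : ℤ) ∣ cyc n a)
    (hn : r ∣ n) : ¬ ((r : ℤ) ^ 2 ∣ cyc n a) := by
  intro hsq
  obtain ⟨k, m, hnm, hmd, hrm, ham⟩ := cofactor_of_dvd hr hn0 h hn
  set d := r ^ k * m with hd
  have hnd : n = d * r := by rw [hd, hnm, pow_succ]; ring
  have hd0 : 0 < d := by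
    rcases Nat.eq_zero_or_pos d with e | e
    · exact absurd (by rw [hnd, e, zero_mul]) hn0
    · exact e
  have hdp : d ∈ n.properDivisors :=
    Nat.mem_properDivisors.mpr ⟨⟨r, hnd⟩, by rw [hnd]; exact lt_mul_of_one_lt_right hd0 hr.one_lt⟩
  set b : ℤ := (a : ℤ) ^ d with hb
  have hb1 : b - 1 ≠ 0 := by
    rw [sub_ne_zero, hb]
    exact (one_lt_pow₀ (by exact_mod_cast ha) hd0.ne').ne'
  have hdvd : cyc n a ∣ ∑ i ∈ range r, b ^ i := by
    obtain ⟨c, hc⟩ := X_pow_sub_one_mul_cyclotomic_dvd_X_pow_sub_one_of_dvd ℤ hdp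
    have h1 := congrArg (eval (a : ℤ)) hc
    simp only [eval_sub, eval_pow, eval_X, eval_one, eval_mul] at h1
    rw [hnd, pow_mul, ← hb, ← geom_sum_mul, ← hnd, mul_comm _ (b - 1), mul_assoc] at h1
    exact ⟨_, mul_left_cancel₀ hb1 h1⟩
  have hsum : ((r : ℤ) ^ 2) ∣ ∑ i ∈ range r, b ^ i := hsq.trans hdvd
  rcases hr.eq_two_or_odd' with rfl | hodd
  · have hm1 : m = 1 := Nat.dvd_one.mp (by simpa using hmd)
    have hk : 1 ≤ k := by
      rcases Nat.eq_zero_or_pos k with rfl | hk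
      · exact absurd (by rw [hnm, hm1]; norm_num) hn2
      · exact hk
    obtain ⟨c, hc⟩ : ∃ c : ℤ, b = c ^ 2 := by
      refine ⟨(a : ℤ) ^ (2 ^ (k - 1)), ?_⟩
      rw [← pow_mul, hb, hd, hm1, mul_one, ← pow_succ, Nat.sub_add_cancel hk]
    rw [Finset.sum_range_succ, Finset.sum_range_one, pow_zero, pow_one, hc] at hsum
    have h4 : ((1 + c ^ 2 : ℤ) : ZMod 4) = 0 :=
      (ZMod.intCast_zmod_eq_zero_iff_dvd _ 4).mpr (by simpa using hsum)
    push_cast at h4
    revert h4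
    generalize (c : ZMod 4) = x
    revert x
    decide
  · obtain ⟨t, ht⟩ : (r : ℤ) ∣ b - 1 := by
      rw [← ZMod.intCast_zmod_eq_zero_iff_dvd, hb]
      push_cast
      rw [hd, mul_comm, pow_mul, ham, one_pow, sub_self]
    have hbz : (b : ZMod (r ^ 2)) = 1 + (r : ZMod (r ^ 2)) * (t : ZMod (r ^ 2)) := by
      have := congrArg (Int.cast : ℤ → ZMod (r ^ 2)) ht
      push_cast at this
      linear_combination this
    have hr2 : (r : ZMod (r ^ 2)) * r = 0 := by
      rw [← Nat.cast_mul, ZMod.natCast_eq_zero_iff, sq]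
    have hpow : ∀ i : ℕ, (b : ZMod (r ^ 2)) ^ i = 1 + (i : ZMod (r ^ 2)) * ((r : ZMod (r ^ 2)) * t) := fun i => by
      induction i with
      | zero => simp
      | succ i ih =>
        rw [pow_succ (b : ZMod (r ^ 2)) i, ih]
        rw [hbz]
        push_cast
        linear_combination ((i : ZMod (r ^ 2)) * t * t) * hr2
    have h0 : ((∑ i ∈ range r, b ^ i : ℤ) : ZMod (r ^ 2)) = 0 :=
      (ZMod.intCast_zmod_eq_zero_iff_dvd _ _).mpr (by push_cast; exact hsum)
    push_cast at h0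
    rw [Finset.sum_congr rfl (fun i _ => hpow i), Finset.sum_add_distrib, Finset.sum_const, card_range,
      nsmul_eq_mul, mul_one, ← Finset.sum_mul] at h0
    obtain ⟨u, hu⟩ : r ∣ ∑ i ∈ range r, i := by
      rw [Finset.sum_range_id]
      obtain ⟨j, hj⟩ := hodd
      exact ⟨j, by subst hj; rw [show (2 * j + 1) * (2 * j + 1 - 1) = ((2 * j + 1) * j) * 2 by
        rw [Nat.add_sub_cancel]; ring, Nat.mul_div_cancel _ two_pos]⟩
    rw [← Nat.cast_sum, hu, Nat.cast_mul] at h0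
    have h1 : (r : ZMod (r ^ 2)) = 0 := by linear_combination h0 - ((u : ZMod (r ^ 2)) * t) * hr2
    rw [ZMod.natCast_eq_zero_iff] at h1
    exact (Nat.not_lt.mpr (Nat.le_of_dvd hr.pos h1)) (lt_self_pow₀ hr.one_lt one_lt_two)

theorem cyc_mul_prime_pow (r m a : ℕ) (hr : r.Prime) : ∀ k : ℕ, cyc (r ^ (k + 1) * m) a = cyc (r * m) (a ^ r ^ k)
  | 0 => by rw [zero_add, pow_one, pow_zero, pow_one]
  | k + 1 => by
    have hd : r ∣ r ^ (k + 1) * m := Dvd.dvd.mul_right (dvd_pow_self r k.succ_ne_zero) m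
    have h := congrArg (eval (a : ℤ)) (cyclotomic_expand_eq_cyclotomic hr hd ℤ)
    rw [expand_eval, show r ^ (k + 1) * m * r = r ^ (k + 1 + 1) * m by ring, ← Nat.cast_pow] at h
    show eval (a : ℤ) _ = _
    rw [← h]
    show cyc _ _ = _
    rw [cyc_mul_prime_pow r m (a ^ r) hr k, ← pow_mul, ← pow_succ']

theorem bound {r b : ℕ} (hr : 3 ≤ r) (hb : 2 ≤ b) (h : ¬ (r = 3 ∧ b = 2)) : r * (b + 1) < b ^ r - 1 := by
  obtain ⟨j, rfl⟩ : ∃ j, r = j + 3 := ⟨r - 3, by omega⟩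
  have hge : ∀ i, (i + 3) * (b + 1) + 1 < b ^ (i + 3) → ((i + 1) + 3) * (b + 1) + 1 < b ^ ((i + 1) + 3) := by
    intro i hi
    rw [show i + 1 + 3 = (i + 3) + 1 by ring, pow_succ]
    have h1 : ((i + 3) * (b + 1) + 1) * b < b ^ (i + 3) * b := Nat.mul_lt_mul_of_pos_right hi (by omega)
    have h2 : 1 * ((i + 3) * (b + 1) + 1) ≤ (b - 1) * ((i + 3) * (b + 1) + 1) :=
      Nat.mul_le_mul_right _ (by omega)
    obtain ⟨c, rfl⟩ : ∃ c, b = c + 1 := ⟨b - 1, by omega⟩
    simp only [Nat.add_sub_cancel] at h2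
    nlinarith
  have base : b = 2 → 4 * (b + 1) + 1 < b ^ 4 := by rintro rfl; norm_num
  suffices (j + 3) * (b + 1) + 1 < b ^ (j + 3) by omega
  induction j with
  | zero =>
    have hb3 : 3 ≤ b := by omega
    have h9 : 9 ≤ b * b := Nat.mul_le_mul hb3 hb3
    have : 9 * b ≤ b ^ 3 := by nlinarith [Nat.mul_le_mul_right b h9]
    simp only [Nat.zero_add]
    omega
  | succ j ih =>
    rcases Nat.eq_zero_or_pos j with rfl | hj
    · rcases Nat.lt_or_ge b 3 with hb3 | hb3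
      · exact base (by omega)
      · refine hge 0 ?_
        have h9 : 9 ≤ b * b := Nat.mul_le_mul hb3 hb3
        have : 9 * b ≤ b ^ 3 := by nlinarith [Nat.mul_le_mul_right b h9]
        simp only [Nat.zero_add]
        omega
    · exact hge j (ih (by omega) (by omega))

/-- **Zsigmondy's theorem** -/
theorem zsigmondy (a n : ℕ) (ha : 1 < a) (hn : 1 < n) (h6 : ¬ (a = 2 ∧ n = 6))
    (h2 : ¬ (n = 2 ∧ ∃ m : ℕ, a + 1 = 2 ^ m)) :
    ∃ r : ℕ, r.Prime ∧ r ∣ a ^ n - 1 ∧ ∀ k : ℕ, 0 < k → k < n → ¬ r ∣ a ^ k - 1 := by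
  classical
  have hdvd : ∀ r : ℕ, (r : ℤ) ∣ cyc n a → r ∣ a ^ n - 1 := fun r hr => by
    rw [← Int.natCast_dvd_natCast, Nat.cast_sub (Nat.one_le_pow _ _ (by omega)), Nat.cast_pow, Nat.cast_one]
    exact hr.trans (cyc_dvd n a)
  by_contra hcon
  push Not at hcon
  have hall : ∀ r : ℕ, r.Prime → (r : ℤ) ∣ cyc n a → r ∣ n := fun r hr hd => by
    by_contra hrn
    obtain ⟨k, hk, hkn, hkd⟩ := hcon r hr (hdvd r hd)
    exact primitive_of_not_dvd hr hd hrn k hk hkn hkd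
  set C := (cyc n a).natAbs with hC
  have hpos := one_lt_cyc hn ha
  have hCcast : (C : ℤ) = cyc n a := by rw [hC]; exact Int.natAbs_of_nonneg (by omega)
  set r := C.minFac with hrdef
  have hC1 : C ≠ 1 := by omega
  have hr : r.Prime := Nat.minFac_prime hC1
  have hrC : (r : ℤ) ∣ cyc n a := hCcast ▸ Int.natCast_dvd_natCast.mpr (Nat.minFac_dvd C)
  have hrn := hall r hr hrC
  have honly : ∀ s : ℕ, s.Prime → s ∣ C → s = r := fun s hs hsd => by
    have hsC : (s : ℤ) ∣ cyc n a := hCcast ▸ Int.natCast_dvd_natCast.mpr hsd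
    exact dvd_index_unique hs hr (by omega) hsC hrC (hall s hs hsC) hrn
  obtain ⟨e, he⟩ : ∃ e, C = r ^ e :=
    ⟨C.primeFactorsList.length, Nat.eq_prime_pow_of_unique_prime_dvd (by omega) (fun {d} hd hdC => honly d hd hdC)⟩
  by_cases hn2 : n = 2
  · refine h2 ⟨hn2, e, ?_⟩
    have h3 : cyc 2 a = (a : ℤ) + 1 := by simp [cyc, cyclotomic_two]
    have hr2 : r = 2 := (Nat.prime_dvd_prime_iff_eq hr Nat.prime_two).mp (hn2 ▸ hrn)
    rw [← hr2, ← he]
    rw [hn2, h3] at hCcast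
    exact_mod_cast hCcast.symm
  have hns := not_sq_dvd hr ha hn2 (by omega) hrC hrn
  have hCr : C = r := by
    rcases Nat.lt_or_ge e 2 with h | h
    · interval_cases e
      · exact absurd (by rw [he, pow_zero]) hC1
      · rw [he, pow_one]
    · exfalso; apply hns
      rw [← hCcast, he]
      exact_mod_cast pow_dvd_pow r h
  obtain ⟨k, m, hnm, hmd, hrm, -⟩ := cofactor_of_dvd hr (by omega) hrC hrn
  rcases hr.eq_two_or_odd' with h2r | hodd
  · have hm1 : m = 1 := Nat.dvd_one.mp (by simpa [h2r] using hmd)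
    rw [h2r, hm1, mul_one] at hnm
    have hk : 1 ≤ k := by
      rcases Nat.eq_zero_or_pos k with rfl | hk
      · exact absurd (by simpa using hnm) hn2
      · exact hk
    have h4 : cyc n a = cyc 2 (a ^ 2 ^ k) := by
      rw [hnm]; simpa using cyc_mul_prime_pow 2 1 a Nat.prime_two k
    have h5 : cyc 2 (a ^ 2 ^ k) = ((a ^ 2 ^ k : ℕ) : ℤ) + 1 := by simp [cyc, cyclotomic_two]
    have h6 : 2 ≤ a ^ 2 ^ k := le_trans ha (Nat.le_self_pow (pow_ne_zero _ two_ne_zero) a)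
    rw [← hCcast, h5, hCr, h2r] at h4
    omega
  · have hr3 : 3 ≤ r := by
      have := hr.two_le
      rcases hodd with ⟨j, hj⟩
      omega
    set b := a ^ r ^ k with hb
    have hb2 : 2 ≤ b := le_trans ha (Nat.le_self_pow (pow_ne_zero _ hr.ne_zero) a)
    have hval : cyc (r * m) b = (r : ℤ) := by
      rw [hb, ← cyc_mul_prime_pow r m a hr k, ← hnm, ← hCcast, hCr]
    by_cases hexc : r = 3 ∧ b = 2
    · obtain ⟨hr', hb'⟩ := hexc
      have ha2 : a = 2 := by
        have : a ≤ b := Nat.le_self_pow (pow_ne_zero _ hr.ne_zero) a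
        omega
      have hk0 : k = 0 := by
        by_contra hk
        have : a ^ 2 ≤ b := Nat.pow_le_pow_right (by omega) (le_trans (by omega) (Nat.le_self_pow hk r))
        rw [ha2] at this
        omega
      have hm : m = 1 ∨ m = 2 := by
        have := Nat.le_of_dvd (by omega) hmd
        have : m ≠ 0 := fun e0 => hrm (e0 ▸ dvd_zero r)
        omega
      rcases hm with rfl | rfl
      · rw [hr', hb', mul_one] at hval
        simp [cyc, cyclotomic_three] at hval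
      · exact h6 ⟨ha2, by rw [hnm, hk0, hr']; norm_num⟩
    have hbd := bound hr3 hb2 hexc
    have hexp := congrArg (eval (b : ℝ)) (cyclotomic_expand_eq_cyclotomic_mul hr hrm ℝ)
    rw [expand_eval, eval_mul, mul_comm m r, ← cast_cyc (r * m) b, hval, Int.cast_natCast] at hexp
    have hup := cyclotomic_eval_le_add_one_pow_totient (q := (b : ℝ)) (by exact_mod_cast hb2) m
    have hbr : (1 : ℝ) < (b : ℝ) ^ r := one_lt_pow₀ (by exact_mod_cast hb2) hr.ne_zero
    have hlow : ((b : ℝ) ^ r - 1) ^ m.totient ≤ (cyclotomic m ℝ).eval ((b : ℝ) ^ r) := by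
      rcases Nat.lt_or_ge m 2 with hm2 | hm2
      · have : m = 1 := by
          have : m ≠ 0 := fun e0 => hrm (e0 ▸ dvd_zero r)
          omega
        subst this
        simp
      · exact (sub_one_pow_totient_lt_cyclotomic_eval hm2 hbr).le
    have hcast : ((b ^ r - 1 : ℕ) : ℝ) = (b : ℝ) ^ r - 1 := by
      rw [Nat.cast_sub (Nat.one_le_pow _ _ (by omega))]; simp
    have hφ : m.totient ≠ 0 := (Nat.totient_pos.mpr (Nat.pos_of_ne_zero (show m ≠ 0 from fun e0 => hrm (e0 ▸ dvd_zero r)))).ne'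
    have h1 : ((r : ℝ) * ((b : ℝ) + 1)) ^ m.totient < ((b : ℝ) ^ r - 1) ^ m.totient := by
      refine pow_lt_pow_left₀ ?_ (by positivity) hφ
      rw [← hcast]
      exact_mod_cast hbd
    rw [mul_pow] at h1
    have h3 : (r : ℝ) ≤ (r : ℝ) ^ m.totient := le_self_pow₀ (by exact_mod_cast hr.one_le) hφ
    have h4 : (r : ℝ) * (cyclotomic m ℝ).eval (b : ℝ) ≤ (r : ℝ) ^ m.totient * ((b : ℝ) + 1) ^ m.totient :=
      mul_le_mul h3 hup (cyclotomic_pos' m (by exact_mod_cast hb2)).le (by positivity)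
    rw [hexp] at hlow
    linarith

end Cfsg.Agent.NumTheory
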